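import Groth.Agent.CohCmpLib.UnitFibre
import Groth.Agent.FMBCLib.Affine
import Groth.Agent.DefClassLib.Basic
import Groth.Agent.HilbPolyLib.BaseField
import Groth.Agent.CohGenLib.Pro
import Groth.Agent.PtBlowLib.Step
import Groth.Agent.CurvLib.Euler
import Groth.Agent.GeomIrrLib.Basic
import Groth.Agent.ConsLib.ModLoci
import Groth.Prelude.Def_W4c2seshadriposJets

/-!
# Separation of jets and extension of the base field
-/

set_option autoImplicit false
set_option linter.style.haveILetI false
set_option backward.isDefEq.respectTransparency false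
set_option backward.isDefEq.respectTransparency.types false
set_option maxHeartbeats 1000000
universe u

open CategoryTheory CategoryTheory.Limits AlgebraicGeometry TopologicalSpace Opposite

noncomputable section

namespace JetBCLib

/-- The units commute with base change. -/
theorem unit_bc {X X' Z Z' : Scheme.{u}} {i : Z ⟶ X} {π : X' ⟶ X} {i' : Z' ⟶ X'} {π' : Z' ⟶ Z}
    (w : π' ≫ i = i' ≫ π) (M : X.Modules) :
    (Scheme.Modules.pullback π).map ((Scheme.Modules.pullbackPushforwardAdjunction i).unit.app M) ≫
      CohBC.bc0 i π i' π' w ((Scheme.Modules.pullback i).obj M) ≫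
        (Scheme.Modules.pushforward i').map ((CohCmpLib.sqIso w).inv.app M) =
      (Scheme.Modules.pullbackPushforwardAdjunction i').unit.app ((Scheme.Modules.pullback π).obj M) := by
  refine ((Scheme.Modules.pullbackPushforwardAdjunction i').homEquiv _ _).symm.injective ?_
  rw [Adjunction.homEquiv_counit, Adjunction.homEquiv_counit]
  dsimp only [Functor.comp_obj]
  erw [Adjunction.left_triangle_components]
  rw [Functor.map_comp,
    Functor.map_comp, Category.assoc, Category.assoc, Adjunction.counit_naturality,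
    reassoc_of% (CohCmpLib.bc0_counit w ((Scheme.Modules.pullback i).obj M))]
  have h := (CohCmpLib.sqIso w).hom.naturality ((Scheme.Modules.pullbackPushforwardAdjunction i).unit.app M)
  simp only [Functor.comp_map] at h
  rw [reassoc_of% h, ← Functor.map_comp_assoc, Adjunction.left_triangle_components,
    CategoryTheory.Functor.map_id, Category.id_comp]
  exact (CohCmpLib.sqIso w).hom_inv_id_app M

variable {k : Type u} [Field k] {X : Scheme.{u}} [X.Over (Spec (CommRingCat.of k))]

/-- Surjectivity on global sections, read on dimensions. -/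
theorem surjective_iff [IsProper (X ↘ Spec (CommRingCat.of k))] {S : ShortComplex X.Modules} (hS : S.ShortExact)
    (h2 : Coh.IsCoh S.X₂) (h3 : Coh.IsCoh S.X₃) :
    Function.Surjective (Sheaf.H.map ((SheafOfModules.toSheaf X.ringCatSheaf).map S.g) 0) ↔
      Module.finrank k (Coh.HH X S.X₃ 0) + Module.finrank k (Coh.HH X S.X₁ 0) = Module.finrank k (Coh.HH X S.X₂ 0) := by
  haveI := CurvLib.finite_HH (k := k) h2 0
  haveI := CurvLib.finite_HH (k := k) h3 0
  have hr := LinearMap.finrank_range_add_finrank_ker (CurvLib.hMap (k := k) S.g 0)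
  rw [← CurvLib.exact₂ hS 0, LinearMap.finrank_range_of_inj (CurvLib.injective₀ hS)] at hr
  show Function.Surjective (CurvLib.hMap (k := k) S.g 0) ↔ _
  rw [← LinearMap.range_eq_top]
  constructor
  · intro h
    rw [h, finrank_top] at hr
    exact hr
  · intro h
    exact Submodule.eq_top_of_finrank_eq (by omega)

/-- Jets along a closed subscheme and its preimage. -/
theorem surjective_resH_iff [IsProper (X ↘ Spec (CommRingCat.of k))] (K : Type u) [Field K] [Algebra k K]
    (I : X.IdealSheafData) (F : X.Modules) (hF : Coh.IsCoh F) :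
    Function.Surjective (W4c2seshadripos.resH I F) ↔ Function.Surjective (W4c2seshadripos.resH
      (I.comap (Curv2.bcFst k X K)) ((Scheme.Modules.pullback (Curv2.bcFst k X K)).obj F)) := by
  let X' := Curv2.bc k X K
  let π := Curv2.bcFst k X K
  letI := HilbPolyLib.bcOver (k := k) (X := X) K
  haveI : IsProper (X' ↘ Spec (CommRingCat.of K)) :=
    MorphismProperty.pullback_snd _ _ ‹IsProper (X ↘ Spec (CommRingCat.of k))›
  haveI : Flat π := MorphismProperty.pullback_fst _ _ (by
    rw [HasRingHomProperty.Spec_iff (P := @Flat)]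
    exact RingHom.flat_algebraMap_iff.2 inferInstance)
  haveI := CurvLib.isNoetherian k (X := X)
  haveI := CurvLib.isNoetherian K (X := X')
  let i := I.subschemeι
  let i' := (I.comap π).subschemeι
  let π' : (I.comap π).subscheme ⟶ I.subscheme := (I.comapIso π).hom ≫ pullback.snd π i
  have hsq : IsPullback π' i' i π :=
    ((IsPullback.of_hasPullback π i).flip).of_iso (I.comapIso π).symm (Iso.refl _) (Iso.refl _) (Iso.refl _)
      (by dsimp only [π', i, Iso.symm_hom, Iso.refl_hom]; rw [Category.comp_id, Iso.inv_hom_id_assoc]) (by simp [i', Scheme.IdealSheafData.comapIso_inv_subschemeι]; rfl) (by simp) (by simp)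
  have hFi := ConsLib.isCoh_pullback i hF
  haveI : Coh.IsQCoh ((Scheme.Modules.pullback i).obj F) := hFi.1
  haveI : Coh.IsQCoh F := hF.1
  haveI : Coh.IsQCoh ((𝟭 X.Modules).obj F) := hF.1
  let P := Scheme.Modules.pullback π
  let adj := Scheme.Modules.pullbackPushforwardAdjunction i
  let adj' := Scheme.Modules.pullbackPushforwardAdjunction i'
  have hQ : Coh.IsCoh ((Scheme.Modules.pushforward i).obj ((Scheme.Modules.pullback i).obj F)) :=
    QCohLib.isCoh_push_finite i _ hFi
  let S : ShortComplex X.Modules := ShortComplex.mk _ _ (kernel.condition (adj.unit.app F))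
  haveI : Epi (adj.unit.app F) := DefClassLib.epi_unit i F
  have hS : S.ShortExact := { exact := ShortComplex.exact_kernel _ }
  haveI : PreservesFiniteLimits P := CohGenLib.preservesFiniteLimits_pullback_flat π
  haveI : P.IsLeftAdjoint := ⟨_, ⟨Scheme.Modules.pullbackPushforwardAdjunction π⟩⟩
  haveI : P.Additive := (Scheme.Modules.pullbackPushforwardAdjunction π).left_adjoint_additive
  haveI := FMBCLib.isIso_bc0_affine hsq ((Scheme.Modules.pullback i).obj F)
  let e : P.obj S.X₃ ≅ (Scheme.Modules.pushforward i').obj ((Scheme.Modules.pullback i').obj (P.obj F)) :=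
    asIso (CohBC.bc0 i π i' π' hsq.w ((Scheme.Modules.pullback i).obj F)) ≪≫
      (Scheme.Modules.pushforward i').mapIso ((CohCmpLib.sqIso hsq.w).app F).symm
  have hg : P.map S.g ≫ e.hom = adj'.unit.app (P.obj F) := unit_bc hsq.w F
  let S' : ShortComplex X'.Modules := ShortComplex.mk (P.map S.f) (adj'.unit.app (P.obj F))
    (by rw [← hg, ← Functor.map_comp_assoc, S.zero, Functor.map_zero, zero_comp])
  have hS' : S'.ShortExact := ShortComplex.shortExact_of_iso
    (ShortComplex.isoMk (S₁ := S.map P) (S₂ := S') (Iso.refl _) (Iso.refl _) e (by simp [S']) (by simpa [S'] using hg.symm))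
    (hS.map_of_exact P)
  have hF' : Coh.IsCoh (P.obj F) := ConsLib.isCoh_pullback π hF
  show Function.Surjective (Sheaf.H.map ((SheafOfModules.toSheaf X.ringCatSheaf).map S.g) 0) ↔
    Function.Surjective (Sheaf.H.map ((SheafOfModules.toSheaf X'.ringCatSheaf).map S'.g) 0)
  rw [surjective_iff (k := k) hS hF hQ, surjective_iff (k := K) hS' hF'
    (QCohLib.isCoh_push_finite i' _ (ConsLib.isCoh_pullback i' hF'))]
  haveI : Coh.IsQCoh S.X₃ := hQ.1
  haveI : Coh.IsQCoh S.X₁ := QCohLib.isQCoh_kernel _
  have e3 : Module.finrank K (Coh.HH X' S'.X₃ 0) = Module.finrank k (Coh.HH X S.X₃ 0) :=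
    ((CurvLib.hIso (k := K) e 0).finrank_eq).symm.trans (HilbPolyLib.finrank_HH_bc K hQ.1 0)
  rw [e3]
  erw [HilbPolyLib.finrank_HH_bc K (F := S.X₁) inferInstance 0, HilbPolyLib.finrank_HH_bc K (F := S.X₂) hF.1 0]

/-- The preimage of a rational point is one reduced point. -/
theorem comap_pointIdeal (K : Type u) [Field K] [Algebra k K] (x : X) (hx : IsClosed ({x} : Set X))
    (hrat : Function.Surjective (Curv2.resMap k X x)) (x' : ↥(Curv2.bc k X K)) (hx' : Curv2.bcFst k X K x' = x)
    (hx'c : IsClosed ({x'} : Set ↥(Curv2.bc k X K))) :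
    (W4c2seshadripos.pointIdeal x hx).comap (Curv2.bcFst k X K) = W4c2seshadripos.pointIdeal x' hx'c := by
  let f := X ↘ Spec (CommRingCat.of k)
  let π := Curv2.bcFst k X K
  let r := X.fromSpecResidueField x
  haveI : IsClosedImmersion r := isClosed_singleton_iff_isClosedImmersion.1 hx
  have hrad : ∀ {Z : Scheme.{u}} {Y : Scheme.{u}} (g : Z ⟶ Y) [QuasiCompact g] [IsReduced Z], g.ker.radical = g.ker := by
    intro Z Y g _ _
    refine le_antisymm (fun U => ?_) (Scheme.IdealSheafData.le_radical _)
    rw [Scheme.IdealSheafData.radical_ideal]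
    rintro a ⟨n, hn⟩
    rw [Scheme.Hom.ker_apply, RingHom.mem_ker] at hn ⊢
    exact eq_zero_of_pow_eq_zero (by rw [← map_pow]; exact hn)
  have hI : W4c2seshadripos.pointIdeal x hx = r.ker := by
    rw [← hrad r, ← Scheme.IdealSheafData.vanishingIdeal_support]
    refine congrArg Scheme.IdealSheafData.vanishingIdeal (Closeds.ext ?_)
    rw [Scheme.Hom.support_ker]
    show ({x} : Set X) = closure (Set.range r.base)
    rw [Scheme.range_fromSpecResidueField, hx.closure_eq]
  let ρ := Spec.preimage (r ≫ f)
  have hρs : Function.Surjective ρ.hom := by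
    intro z
    obtain ⟨c, hc⟩ := hrat z
    refine ⟨c, ?_⟩
    rw [← hc]
    refine RingHom.congr_fun (congrArg CommRingCat.Hom.hom (Spec.map_injective
      (a₁ := ρ) (a₂ := CommRingCat.ofHom (Curv2.resMap k X x)) ?_)) c
    rw [Spec.map_preimage]
    exact (GeomIrrLib.specMap_resMap x).symm
  haveI : IsIso ρ := (RingEquiv.ofBijective ρ.hom ⟨ρ.hom.injective, hρs⟩).toCommRingCatIso.isIso_hom
  haveI : IsIso (r ≫ f) := by
    rw [← Spec.map_preimage (r ≫ f)]
    infer_instance
  have H : IsPullback (pullback.snd π r) (pullback.fst π r ≫ Curv2.bcSnd k X K) (r ≫ f)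
      (Spec.map (CommRingCat.ofHom (algebraMap k K))) :=
    (IsPullback.of_hasPullback π r).flip.paste_vert (IsPullback.of_hasPullback f _)
  haveI : IsIso (pullback.fst π r ≫ Curv2.bcSnd k X K) :=
    MorphismProperty.of_isPullback (P := MorphismProperty.isomorphisms _) H
      ((MorphismProperty.isomorphisms.iff _).2 inferInstance)
  haveI : IsReduced (pullback π r) := isReduced_of_isOpenImmersion (pullback.fst π r ≫ Curv2.bcSnd k X K)
  haveI : Subsingleton ↥(pullback π r) :=
    (pullback.fst π r ≫ Curv2.bcSnd k X K).homeomorph.injective.subsingleton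
  rw [hI, ← Scheme.IdealSheafData.ker_fst_of_isClosedImmersion r π, ← hrad (pullback.fst π r), ← Scheme.IdealSheafData.vanishingIdeal_support]
  refine congrArg Scheme.IdealSheafData.vanishingIdeal (Closeds.ext ?_)
  rw [Scheme.Hom.support_ker]
  show closure (Set.range (pullback.fst π r).base) = ({x'} : Set _)
  obtain ⟨z, hz⟩ : x' ∈ Set.range (pullback.fst π r).base := by
    rw [Scheme.Pullback.range_fst, Scheme.range_fromSpecResidueField]
    exact hx'
  rw [show Set.range (pullback.fst π r).base = {x'} from Set.eq_singleton_iff_unique_mem.2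
    ⟨⟨z, hz⟩, fun y ⟨z', hz'⟩ => by rw [← hz', Subsingleton.elim z' z, hz]⟩, hx'c.closure_eq]

end JetBCLib
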